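import Cfsg.Agent.BpSpor.MBigEleven
import Cfsg.Agent.CoOneType.InvMain

/-!
# S2198: `J₃` is not a subgroup of the Monster — interface (helper820)

`JC z` : the subgroup `2^{1+4}_-:A₅` (the centraliser of the involution `z` of `J₃`): `e i j` is the product `e_i e_j` of
two Clifford generators, `k` the complement `A₅` permuting the five generators.

The statements `OctLiftStmt`, `DodStmt`, `NegStmt`, `CaseTwoStmt`, `EOneStmt`, `ETwoStmt`, `EFourStmt`, `JSideStmt` are the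
pieces of the proof.
-/

set_option autoImplicit false

namespace Cfsg.Agent.H820.Par

open Cfsg Cfsg.Spor Cfsg.Agent.MonsterX Cfsg.Agent.BpSpor.MBigModel Cfsg.Agent.MonsterU Cfsg.Agent.MonsterU.Lam2
open Cfsg.Agent.SporadicA.Co0Mono Cfsg.Agent.SporadicA.Co1Simple Cfsg.Agent.CoOneType.ClosingFacts
open Subgroup (centralizer mem_centralizer_singleton_iff)

/-! ### The subgroup `2^{1+4}_-:A₅` -/

/-- `2^{1+4}_-:A₅` in a group all of whose involutions (in `J`) are conjugate to `z`. -/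
structure JC {G : Type*} [Group G] (z : G) where
  /-- the ambient subgroup -/
  J : Subgroup G
  /-- `e i j = e_i e_j` -/
  e : Fin 5 → Fin 5 → G
  /-- the complement -/
  k : alternatingGroup (Fin 5) →* G
  e_mem : ∀ i j, e i j ∈ J
  k_mem : ∀ σ, k σ ∈ J
  z_ne : z ≠ 1
  e_mul : ∀ i j l, e i j * e j l = e i l
  e_sq : ∀ i j, i ≠ j → e i j * e i j = z
  e_comm : ∀ i j l m, i ≠ l → i ≠ m → j ≠ l → j ≠ m → e i j * e l m = e l m * e i j
  k_conj : ∀ σ i j, k σ * e i j * (k σ)⁻¹ = e ((σ : Equiv.Perm (Fin 5)) i) ((σ : Equiv.Perm (Fin 5)) j)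
  inv : ∀ x ∈ J, x * x = 1 → x ≠ 1 → ∃ g : G, g * z * g⁻¹ = x

namespace JC

variable {G : Type*} [Group G] {z : G} (C : JC z)

include C

theorem e_self (i : Fin 5) : C.e i i = 1 := by
  have h := C.e_mul i i i
  exact mul_eq_left.1 h

theorem e_inv (i j : Fin 5) : (C.e i j)⁻¹ = C.e j i := by
  rw [inv_eq_iff_mul_eq_one, C.e_mul, C.e_self]

theorem zsq : z * z = 1 := by
  have h1 := C.e_sq 0 1 (by decide)
  have h2 := C.e_sq 1 0 (by decide)
  calc z * z = (C.e 0 1 * C.e 0 1) * (C.e 1 0 * C.e 1 0) := by rw [h1, h2]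
    _ = C.e 0 1 * (C.e 0 1 * C.e 1 0) * C.e 1 0 := by group
    _ = 1 := by rw [C.e_mul, C.e_self, mul_one, C.e_mul, C.e_self]

theorem z_mem : z ∈ C.J := by
  have h := mul_mem (C.e_mem 0 1) (C.e_mem 0 1)
  rwa [C.e_sq 0 1 (by decide)] at h

theorem e_z (i j : Fin 5) : C.e i j * z = z * C.e i j := by
  by_cases h : i = j
  · subst h; rw [C.e_self, one_mul, mul_one]
  · have h1 := C.e_sq i j h
    calc C.e i j * z = C.e i j * (C.e i j * C.e i j) := by rw [h1]
      _ = (C.e i j * C.e i j) * C.e i j := by group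
      _ = z * C.e i j := by rw [h1]

theorem k_z (σ : alternatingGroup (Fin 5)) : C.k σ * z = z * C.k σ := by
  have h1 : C.k σ * (C.e 0 1 * C.e 0 1) * (C.k σ)⁻¹ = z := by
    have h2 : C.k σ * (C.e 0 1 * C.e 0 1) * (C.k σ)⁻¹ =
        (C.k σ * C.e 0 1 * (C.k σ)⁻¹) * (C.k σ * C.e 0 1 * (C.k σ)⁻¹) := by group
    rw [h2, C.k_conj, C.e_sq]
    exact fun h => absurd ((σ : Equiv.Perm (Fin 5)).injective h) (by decide)
  rw [C.e_sq 0 1 (by decide)] at h1
  exact mul_inv_eq_iff_eq_mul.1 h1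

/-- the reversed generator -/
theorem e_swap {i j : Fin 5} (h : i ≠ j) : C.e j i = z * C.e i j := by
  calc C.e j i = C.e j i * (C.e j i * C.e i j) := by rw [C.e_mul, C.e_self, mul_one]
    _ = (C.e j i * C.e j i) * C.e i j := by group
    _ = z * C.e i j := by rw [C.e_sq j i h.symm]

end JC

/-- The first of the four other points, in an order depending evenly on `i`. -/
def nx : Fin 5 → Fin 4 → Fin 5
  | 4, 0 => 0 | 4, 1 => 1 | 4, 2 => 2 | 4, 3 => 3
  | 0, 0 => 1 | 0, 1 => 2 | 0, 2 => 3 | 0, 3 => 4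
  | 1, 0 => 2 | 1, 1 => 3 | 1, 2 => 4 | 1, 3 => 0
  | 2, 0 => 3 | 2, 1 => 4 | 2, 2 => 0 | 2, 3 => 1
  | 3, 0 => 4 | 3, 1 => 0 | 3, 2 => 1 | 3, 3 => 2

namespace JC

variable {G : Type*} [Group G] {z : G} (C : JC z)

/-- `u i`: the involution of `2^{1+4}_-` over the four-element set without `i`; `u 4 = e 0 1 * e 2 3`. -/
def u (i : Fin 5) : G := C.e (nx i 0) (nx i 1) * C.e (nx i 2) (nx i 3)

/-- the subgroup `2^{1+4}_-` -/
def O : Subgroup G := Subgroup.closure (Set.range fun p : Fin 5 × Fin 5 => C.e p.1 p.2)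

end JC

/-! ### Case 2 data -/

/-- `JC` together with data outside of the centraliser of `z`. -/
structure JD {G : Type*} [Group G] (z : G) extends JC z where
  g : G
  p : G
  q : G
  x : G
  g_z : g * z * g⁻¹ = toJC.u 4
  p_mem : ∃ s ∈ toJC.O, p = g * s * g⁻¹
  q_mem : ∃ s ∈ toJC.O, q = g * s * g⁻¹
  p_z : p * z = z * p
  q_z : q * z = z * q
  x_mem : x ∈ toJC.O
  x_u : x * toJC.u 4 = toJC.u 4 * x * z
  prod : x * (p * x * p⁻¹) * (q * x * q⁻¹) * ((p * q) * x * (p * q)⁻¹) = toJC.u 4 ∨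
    x * (p * x * p⁻¹) * (q * x * q⁻¹) * ((p * q) * x * (p * q)⁻¹) = toJC.u 4 * z

/-- **J-side.** -/
def JSideStmt : Prop := ∀ {H : Type} [Group H], Spor.IsoJ3 H →
  ∃ (z : H) (_ : JD z) (g : H), 6 < orderOf (z * (g * z * g⁻¹))

/-! ### The Monster side -/

/-- the group `O₂(C(z))` -/
noncomputable abbrev QQ : Subgroup MG := KDone.K.ι.range

/-- the map `Q → Λ/2Λ` -/
noncomputable abbrev eta : MG → L2 := LThreeMB.KChart.eta KDone.lft

/-- the centraliser of `z` -/
noncomputable abbrev CZ : Subgroup MG := centralizer ({zz} : Set MG)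

theorem chart : Ch.Chart QQ zz eta pi := Cfsg.Agent.BpSpor.MBigModel.chart

/-- the class `2B` -/
def TwoB (x : MG) : Prop := ∃ g : MG, g * zz * g⁻¹ = x

/-- `g` is an involution of trace `8` of `Co₀`: conjugate to the sign change on an octad. -/
def IsOct (g : Co0) : Prop := ∃ (h : Co0) (c : golayCode),
  support₂ (c : GolayPt → ZMod 2) ∈ octads ∧ h * g * h⁻¹ = signCo0 c

/-- `g` is an involution of trace `0` of `Co₀`: conjugate to the sign change on a dodecad. -/
def IsDod (g : Co0) : Prop := ∃ (h : Co0) (c : golayCode),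
  support₂ (c : GolayPt → ZMod 2) ∈ dodecads ∧ h * g * h⁻¹ = signCo0 c

/-- `g² = -1`. -/
def IsNeg (g : Co0) : Prop := g * g = signCo0 allOne

/-- **(M1)** over every involution `g` of trace `8` there is an involution `x₀` of `C(z)`, not in the class `2B`, commuting
with all elements of `Q` over fixed points of `g`. -/
def OctLiftStmt : Prop := ∀ g : Co0, IsOct g → ∃ x₀ : CZ, pi x₀ = mk g ∧ x₀ * x₀ = 1 ∧
  (∀ q ∈ QQ, g • eta q = eta q → (x₀ : MG) * q = q * x₀) ∧ ¬ TwoB (x₀ : MG)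

/-- **(M2)** nothing over an involution of trace `0` squares to `z`. -/
def DodStmt : Prop := ∀ g : Co0, IsDod g → ∀ x : CZ, pi x = mk g → (x : MG) * x ≠ zz

/-- **(M3)** no involution over an element of square `-1`. -/
def NegStmt : Prop := ∀ g : Co0, IsNeg g → ∀ x : CZ, pi x = mk g → (x : MG) * x ≠ 1

/-- **Case 2**: `O ≤ Q`. -/
def CaseTwoStmt : Prop := ∀ g a p q x : MG, a ∈ QQ → g * zz * g⁻¹ = a → a ≠ zz → x ∈ QQ → x * a = a * x * zz →
  (∃ s ∈ QQ, p = g * s * g⁻¹) → (∃ s ∈ QQ, q = g * s * g⁻¹) → p * zz = zz * p → q * zz = zz * q →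
  (x * (p * x * p⁻¹) * (q * x * q⁻¹) * ((p * q) * x * (p * q)⁻¹) = a ∨
    x * (p * x * p⁻¹) * (q * x * q⁻¹) * ((p * q) * x * (p * q)⁻¹) = a * zz) → False

/-! ### Case 1 -/

namespace JC

/-- `e i j` in the centraliser of `z` -/
noncomputable def ce (C : JC zz) (i j : Fin 5) : CZ := ⟨C.e i j, mem_centralizer_singleton_iff.2 (C.e_z i j)⟩

/-- `u i` in the centraliser of `z` -/
noncomputable def cu (C : JC zz) (i : Fin 5) : CZ := C.ce (nx i 0) (nx i 1) * C.ce (nx i 2) (nx i 3)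

/-- the complement in the centraliser of `z` -/
noncomputable def ck (C : JC zz) : alternatingGroup (Fin 5) →* CZ where
  toFun σ := ⟨C.k σ, mem_centralizer_singleton_iff.2 (C.k_z σ)⟩
  map_one' := Subtype.ext C.k.map_one
  map_mul' a b := Subtype.ext (C.k.map_mul a b)

theorem coe_ce (C : JC zz) (i j : Fin 5) : (C.ce i j : MG) = C.e i j := rfl

theorem coe_cu (C : JC zz) (i : Fin 5) : (C.cu i : MG) = C.u i := rfl

theorem coe_ck (C : JC zz) (σ : alternatingGroup (Fin 5)) : (C.ck σ : MG) = C.k σ := rfl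

end JC

/-- The elementary abelian case: the images of the `u i` in `Co₁` have commuting lifts `U i` of order 2 with product 1,
permuted by the lifts of the `k σ`; the products of two of them have trace `8`. -/
structure EA (C : JC zz) where
  U : Fin 5 → Co0
  sq : ∀ i, U i * U i = 1
  comm : ∀ i j, U i * U j = U j * U i
  prod : U 0 * U 1 * U 2 * U 3 * U 4 = 1
  mk_U : ∀ i, mk (U i) = pi (C.cu i)
  mk_UU : ∀ i j, i ≠ j → mk (U i * U j) = pi (C.ce i j)
  conj : ∀ (σ : alternatingGroup (Fin 5)) (κ : Co0), mk κ = pi (C.ck σ) →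
    ∀ i, κ * U i * κ⁻¹ = U ((σ : Equiv.Perm (Fin 5)) i)
  octUU : ∀ i j, i ≠ j → IsOct (U i * U j)

/-- **E1**: the `U i` have trace `-8`. -/
def EOneStmt : Prop := ∀ (C : JC zz) (A : EA C), (∀ i, IsOct (signCo0 allOne * A.U i)) → False

/-- **E2**: the `U i` have trace `8`. -/
def ETwoStmt : Prop := ∀ (C : JC zz) (A : EA C), (∀ i, IsOct (A.U i)) → False

/-- **E4**: the elements over `e i j` have square `-1`, those over `u i` trace `0`. -/
def EFourStmt : Prop := ∀ C : JC zz, (∀ i j, i ≠ j → ∀ g : Co0, mk g = pi (C.ce i j) → IsNeg g) →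
  (∀ i, ∀ g : Co0, mk g = pi (C.cu i) → IsDod g) → False

end Cfsg.Agent.H820.Par
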