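import Cfsg.Agent.H820.Par.TriEA
import Cfsg.Agent.H935.RuM.Mon
import Cfsg.Agent.MonsterP.Equiv

/-!
# S2198: assembly of "`J₃` is not a subgroup of the Monster" (helper820)
-/

set_option autoImplicit false

namespace Cfsg.Agent.H820.Par

open Cfsg Cfsg.Spor Cfsg.Agent.MonsterX Cfsg.Agent.BpSpor.MBigModel Cfsg.Agent.MonsterU Cfsg.Agent.MonsterU.Lam2
open Cfsg.Agent.SporadicA.Co0Mono Cfsg.Agent.SporadicA.Co1Simple Cfsg.Agent.CoOneType.ClosingFacts
open Subgroup (centralizer mem_centralizer_singleton_iff)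

/-! ### transport -/

section

variable {H G : Type*} [Group H] [Group G] {z : H} {w : G} (f : H →* G)

/-- transport of `JC` -/
def JC.map (hf : Function.Injective f) (hw : f z = w) (C : JC z) : JC w where
  J := C.J.map f
  e i j := f (C.e i j)
  k := f.comp C.k
  e_mem i j := Subgroup.mem_map_of_mem f (C.e_mem i j)
  k_mem σ := Subgroup.mem_map_of_mem f (C.k_mem σ)
  z_ne h := C.z_ne (hf (by rw [hw, h, map_one]))
  e_mul i j l := by rw [← map_mul, C.e_mul]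
  e_sq i j h := by rw [← map_mul, C.e_sq i j h, hw]
  e_comm i j l m h1 h2 h3 h4 := by rw [← map_mul, ← map_mul, C.e_comm i j l m h1 h2 h3 h4]
  k_conj σ i j := by
    show f (C.k σ) * f (C.e i j) * (f (C.k σ))⁻¹ = _
    rw [← map_inv, ← map_mul, ← map_mul, C.k_conj]
  inv x hx hxx hx1 := by
    obtain ⟨y, hy, rfl⟩ := hx
    obtain ⟨g, hg⟩ := C.inv y hy (hf (by rw [map_mul, hxx, map_one])) (fun h => hx1 (by rw [h, map_one]))
    exact ⟨f g, by rw [← hw, ← map_inv, ← map_mul, ← map_mul, hg]⟩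

theorem JC.map_u (hf : Function.Injective f) (hw : f z = w) (C : JC z) (i : Fin 5) :
    (C.map f hf hw).u i = f (C.u i) := by
  show f _ * f _ = f (_ * _)
  rw [map_mul]

theorem JC.map_O (hf : Function.Injective f) (hw : f z = w) (C : JC z) {s : H} (hs : s ∈ C.O) :
    f s ∈ (C.map f hf hw).O := by
  have h1 : C.O ≤ ((C.map f hf hw).O).comap f := by
    unfold JC.O
    rw [Subgroup.closure_le]
    rintro _ ⟨p, rfl⟩
    exact Subgroup.subset_closure ⟨p, rfl⟩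
  exact h1 hs

/-- transport of `JD` -/
def JD.map (hf : Function.Injective f) (hw : f z = w) (D : JD z) : JD w where
  toJC := D.toJC.map f hf hw
  g := f D.g
  p := f D.p
  q := f D.q
  x := f D.x
  g_z := by rw [JC.map_u, ← hw, ← map_inv, ← map_mul, ← map_mul, D.g_z]
  p_mem := by
    obtain ⟨s, hs, h⟩ := D.p_mem
    exact ⟨f s, JC.map_O f hf hw _ hs, by rw [h, map_mul, map_mul, map_inv]⟩
  q_mem := by
    obtain ⟨s, hs, h⟩ := D.q_mem
    exact ⟨f s, JC.map_O f hf hw _ hs, by rw [h, map_mul, map_mul, map_inv]⟩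
  p_z := by rw [← hw, ← map_mul, ← map_mul, D.p_z]
  q_z := by rw [← hw, ← map_mul, ← map_mul, D.q_z]
  x_mem := JC.map_O f hf hw _ D.x_mem
  x_u := by rw [JC.map_u, ← hw, ← map_mul, ← map_mul, ← map_mul, D.x_u]
  prod := by
    rw [JC.map_u, ← hw]
    simp only [← map_mul, ← map_inv]
    rcases D.prod with h | h
    · left; rw [h]
    · right; rw [h]

end

/-! ### Case 2 -/

theorem x_all {C : JC zz} (h : C.x 0 1 = 1) (i j : Fin 5) : C.x i j = 1 := by
  by_cases hij : i = j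
  · subst hij; exact C.x_self i
  obtain ⟨l, hl1, hl2⟩ := third_point i j
  obtain ⟨σ, h0, h1, -⟩ := tri_perm i j l hij hl1.symm hl2.symm
  rw [← h0, ← h1, ← C.y_conj, h, mul_one, mul_inv_cancel]

theorem x_one_of {C : JC zz} {i j : Fin 5} (hij : i ≠ j) (h : C.x i j = 1) : C.x 0 1 = 1 := by
  obtain ⟨l, hl1, hl2⟩ := third_point i j
  obtain ⟨σ, h0, h1, -⟩ := tri_perm i j l hij hl1.symm hl2.symm
  rw [← h0, ← h1, ← C.y_conj, mul_inv_eq_one] at h
  exact mul_left_cancel (h.trans (mul_one _).symm)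

theorem u_one_of {C : JC zz} {i : Fin 5} (h : pi (C.cu i) = 1) : C.x 0 1 = 1 := by
  obtain ⟨d01, d02, d03, d12, d13, d23, d0, d1, d2, d3⟩ := nx_facts i
  have key : ∀ {a b c d : Fin 5}, a ≠ b → a ≠ c → a ≠ d → b ≠ c → b ≠ d → c ≠ d →
      (C.x a b = C.x c d ↔ C.x 0 1 = C.x 2 3) := by
    intro a b c d hab hac had hbc hbd hcd
    obtain ⟨σ, h0, h1, h2⟩ := quad_perm a b c d hab hac had hbc hbd hcd
    have e1 : C.x a b = C.y σ * C.x 0 1 * (C.y σ)⁻¹ := by rw [C.y_conj, h0, h1]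
    have e2 : C.x c d = C.y σ * C.x 2 3 * (C.y σ)⁻¹ := by
      rw [C.y_conj]
      rcases h2 with ⟨h2, h3⟩ | ⟨h2, h3⟩
      · rw [h2, h3]
      · rw [h2, h3, C.x_swap]
    rw [e1, e2]
    constructor
    · intro e; exact mul_left_cancel (mul_right_cancel e)
    · intro e; rw [e]
  have h1 : C.x (nx i 0) (nx i 1) = C.x (nx i 2) (nx i 3) := by
    rw [C.pi_cu] at h
    calc C.x (nx i 0) (nx i 1) = C.x (nx i 0) (nx i 1) * (C.x (nx i 2) (nx i 3) * C.x (nx i 2) (nx i 3)) := by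
          rw [C.x_sq, mul_one]
      _ = C.x (nx i 2) (nx i 3) := by rw [← mul_assoc, h, one_mul]
  have h2 := (key d01 d02 d03 d12 d13 d23).1 h1
  have h3 : C.x 4 1 = C.x 2 3 :=
    (key (by decide) (by decide) (by decide) (by decide) (by decide) (by decide)).2 h2
  have h4 : C.x 0 4 = 1 := by
    rw [← C.x_mul 0 1 4, C.x_swap 4 1, h3, h2, C.x_sq]
  exact x_one_of (by decide : (0 : Fin 5) ≠ 4) h4

theorem u_ne_z {G : Type*} [Group G] {z : G} (C : JC z) : C.u 4 ≠ z := by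
  intro h
  have h0 : C.u 4 = C.e 0 1 * C.e 2 3 := rfl
  rw [h0] at h
  have h1 : C.e 2 3 = C.e 0 1 := mul_left_cancel (h.trans (C.e_sq 0 1 (by decide)).symm)
  have h2 : C.e 0 1 * C.e 0 4 = C.e 0 4 * C.e 0 1 := by
    rw [← h1]
    exact C.e_comm 2 3 0 4 (by decide) (by decide) (by decide) (by decide)
  have h3 : C.e 1 0 * C.e 0 4 = C.e 1 4 := C.e_mul _ _ _
  have h4 : C.e 4 0 * C.e 0 1 = C.e 4 1 := C.e_mul _ _ _
  have h5 : C.e 1 4 = C.e 4 1 := by
    rw [← h3, ← h4, C.e_swap (by decide : (0 : Fin 5) ≠ 1), C.e_swap (by decide : (0 : Fin 5) ≠ 4), mul_assoc,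
      mul_assoc, h2]
  rw [C.e_swap (by decide : (1 : Fin 5) ≠ 4)] at h5
  exact C.z_ne (mul_eq_right.1 h5.symm)

theorem O_le {C : JC zz} (h : C.x 0 1 = 1) : C.O ≤ QQ := by
  unfold JC.O
  rw [Subgroup.closure_le]
  rintro _ ⟨p, rfl⟩
  exact (chart.pi_eq_one (C.ce p.1 p.2)).1 (x_all h p.1 p.2)

/-- **`J₃` data in the Monster are impossible.** -/
theorem no_JD (h2 : CaseTwoStmt) (hD : DodStmt) (hE1 : EOneStmt) (hE2 : ETwoStmt) (hE4 : EFourStmt)
    (D : JD zz) : False := by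
  by_cases hx : D.toJC.x 0 1 = 1
  · have hO := O_le hx
    have hu : D.toJC.u 4 ∈ QQ := hO (mul_mem (Subgroup.subset_closure ⟨(0, 1), rfl⟩)
      (Subgroup.subset_closure ⟨(2, 3), rfl⟩))
    refine h2 D.g (D.toJC.u 4) D.p D.q D.x hu D.g_z (u_ne_z _) (hO D.x_mem) D.x_u ?_ ?_ D.p_z D.q_z D.prod
    · obtain ⟨s, hs, h⟩ := D.p_mem
      exact ⟨s, hO hs, h⟩
    · obtain ⟨s, hs, h⟩ := D.q_mem
      exact ⟨s, hO hs, h⟩
  · rcases cases hD D.toJC (fun i j hij h => hx (x_one_of hij h)) (fun i h => hx (u_one_of h)) with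
      ⟨A, hA⟩ | ⟨A, hA⟩ | ⟨hA, hB⟩
    · exact hE1 _ A hA
    · exact hE2 _ A hA
    · exact hE4 _ hA hB

/-- **No injective homomorphism from `J₃` to the Monster.** -/
theorem no_hom (hJ : JSideStmt) (h2 : CaseTwoStmt) (hD : DodStmt) (hE1 : EOneStmt) (hE2 : ETwoStmt)
    (hE4 : EFourStmt) {H : Type} [Group H] (h : Spor.IsoJ3 H) (f : H →* Spor.Monster) : ¬ Function.Injective f := by
  intro hf
  obtain ⟨z, D, g, hg⟩ := hJ h
  obtain ⟨e⟩ := MonsterP.Equiv.equiv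
  let F : H →* MG := e.toMonoidHom.comp f
  have hF : Function.Injective F := e.injective.comp hf
  have hzz : z * z = 1 := D.toJC.zsq
  have hz : z ≠ 1 := D.toJC.z_ne
  obtain ⟨k, hk⟩ := H935.RuM.conj_zz (u := F z) (g := F g) (by rw [← map_mul, hzz, map_one])
    (fun h1 => hz (hF (by rw [h1, map_one]))) (by
      have h1 : F z * (F g * F z * (F g)⁻¹) = F (z * (g * z * g⁻¹)) := by simp only [map_mul, map_inv]
      rw [h1, orderOf_injective F hF]
      exact hg)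
  let c : H →* MG := (MulAut.conj k⁻¹).toMonoidHom.comp F
  have hc : Function.Injective c := (MulAut.conj k⁻¹).injective.comp hF
  have hcz : c z = zz := by
    change k⁻¹ * F z * k⁻¹⁻¹ = zz
    rw [← hk]; group
  exact no_JD h2 hD hE1 hE2 hE4 (D.map c hc hcz)

/-- **No subgroup of the Monster is isomorphic to `J₃`.** -/
theorem no_subgroup_of (hJ : JSideStmt) (h2 : CaseTwoStmt) (hD : DodStmt) (hE1 : EOneStmt) (hE2 : ETwoStmt)
    (hE4 : EFourStmt) (H : Subgroup Spor.Monster) : ¬ Spor.IsoJ3 ↥H := fun h =>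
  no_hom hJ h2 hD hE1 hE2 hE4 h H.subtype H.subtype_injective

end Cfsg.Agent.H820.Par
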