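import Cfsg.Agent.H820.Par.Base
import Cfsg.Agent.SigZeroCo2.Lin
import Cfsg.Agent.KFacts.Co1D4.Base
import Cfsg.Agent.CoOneType.ClosingCo1

/-!
# S2198: the case division in Case 1 (helper820)
-/

set_option autoImplicit false

namespace Cfsg.Agent.H820.Par

open Cfsg Cfsg.Spor Cfsg.Agent.MonsterX Cfsg.Agent.BpSpor.MBigModel Cfsg.Agent.MonsterU Cfsg.Agent.MonsterU.Lam2
open Cfsg.Agent.SporadicA.Co0Mono Cfsg.Agent.SporadicA.Co1Simple Cfsg.Agent.CoOneType.ClosingFacts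
open Cfsg.Agent.Co2Type.Mono (tr8 tr8_conj)
open Cfsg.Agent.CoOneType.SignFacts (wt)
open Subgroup (centralizer mem_centralizer_singleton_iff)

/-! ### generalities on `Co₀` -/

/-- `-1` -/
noncomputable abbrev n1 : Co0 := signCo0 allOne

theorem n1_comm (g : Co0) : n1 * g = g * n1 := (Subgroup.mem_center_iff.1 allOne_mem_center g).symm

theorem n1_sq : n1 * n1 = 1 := by
  apply Cfsg.Agent.SporadicA.Co0Mono.ext
  intro v
  rw [mul_smul, allOne_smul, allOne_smul, neg_neg, one_smul]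

theorem mk_n1 (g : Co0) : mk (n1 * g) = mk g := by
  rw [mk_mul]
  have : mk n1 = 1 := (QuotientGroup.eq_one_iff _).2 allOne_mem_center
  rw [this, one_mul]

theorem eq_or_of_mk {g h : Co0} (e : mk g = mk h) : g = h ∨ g = n1 * h := by
  have h1 : mk (g * h⁻¹) = 1 := by rw [mk_mul, mk_inv, e, mul_inv_cancel]
  have h2 : g * h⁻¹ ∈ Subgroup.center Co0 := (QuotientGroup.eq_one_iff _).1 h1
  rcases Cfsg.Agent.SporadicA.Co0Basic.eq_one_or_neg_of_mem_center h2 with h3 | h3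
  · left; exact mul_inv_eq_one.1 h3
  · right
    rw [Cfsg.Agent.CoOneType.ClosingFacts.neg_eq] at h3
    exact mul_inv_eq_iff_eq_mul.1 h3

theorem mk_ne_of {g : Co0} (h : mk g ≠ 1) : g ≠ 1 ∧ g ≠ n1 := by
  refine ⟨fun e => h (by rw [e]; rfl), fun e => h ?_⟩
  rw [e]; exact (QuotientGroup.eq_one_iff _).2 allOne_mem_center

theorem tr8_n1 (g : Co0) : tr8 (n1 * g) = -tr8 g := by
  unfold Cfsg.Agent.Co2Type.Mono.tr8
  rw [← Finset.sum_neg_distrib]
  apply Finset.sum_congr rfl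
  intro i _
  rw [mul_smul, allOne_smul]
  rfl

open Cfsg.Agent.KFacts.Co1D4.Base in
theorem IsOct.tr {g : Co0} (h : IsOct g) : tr8 g = 64 := by
  obtain ⟨k, c, hc, e⟩ := h
  rw [← tr8_conj k g, e, tr8_sign]
  have : wt c = 8 := hc.2
  rw [this]; norm_num

open Cfsg.Agent.KFacts.Co1D4.Base in
theorem IsDod.tr {g : Co0} (h : IsDod g) : tr8 g = 0 := by
  obtain ⟨k, c, hc, e⟩ := h
  rw [← tr8_conj k g, e, tr8_sign]
  have : wt c = 12 := hc.2
  rw [this]; norm_num

theorem IsOct.conj {g : Co0} (h : IsOct g) (k : Co0) : IsOct (k * g * k⁻¹) := by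
  obtain ⟨l, c, hc, e⟩ := h
  exact ⟨l * k⁻¹, c, hc, by rw [← e]; group⟩

theorem IsDod.conj {g : Co0} (h : IsDod g) (k : Co0) : IsDod (k * g * k⁻¹) := by
  obtain ⟨l, c, hc, e⟩ := h
  exact ⟨l * k⁻¹, c, hc, by rw [← e]; group⟩

theorem cases_one {t : Co0} (ht : t * t = 1) (h1 : mk t ≠ 1) : IsOct t ∨ IsOct (n1 * t) ∨ IsDod t := by
  obtain ⟨o, ho'⟩ := Cfsg.Agent.CoOneType.ClosingCo1.exists_octad
  obtain ⟨d, hd'⟩ := Cfsg.Agent.CoOneType.ClosingCo1.exists_dodecad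
  have ho : support₂ (o : GolayPt → ZMod 2) ∈ octads := ⟨⟨o, o.2, rfl⟩, ho'⟩
  have hd : support₂ (d : GolayPt → ZMod 2) ∈ dodecads := ⟨⟨d, d.2, rfl⟩, hd'⟩
  rcases Cfsg.Agent.CoOneType.InvMain.sq_one_cases t ht o d ho hd with h | h | ⟨g, h | h | h⟩
  · exact absurd h (mk_ne_of h1).1
  · exact absurd h (mk_ne_of h1).2
  · exact Or.inl ⟨g, o, ho, h⟩
  · right; left
    refine ⟨g, o, ho, ?_⟩
    rw [signCo0_add] at h
    calc g * (n1 * t) * g⁻¹ = n1 * (g * t * g⁻¹) := by rw [← mul_assoc g, ← n1_comm g]; group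
      _ = n1 * (signCo0 o * n1) := by rw [h]
      _ = (n1 * n1) * signCo0 o := by rw [← n1_comm, mul_assoc]
      _ = signCo0 o := by rw [n1_sq, one_mul]
  · exact Or.inr (Or.inr ⟨g, d, hd, h⟩)

theorem sq_cases {g : Co0} (h : mk g * mk g = 1) : g * g = 1 ∨ IsNeg g := by
  rw [← mk_mul] at h
  rcases eq_or_of_mk (h := 1) (g := g * g) (h.trans rfl) with h1 | h1
  · exact Or.inl h1
  · right
    rw [mul_one] at h1
    exact h1

theorem not_oct_neg {g : Co0} (h : IsOct g) : ¬ IsOct (n1 * g) := by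
  intro h2
  have h3 := h2.tr
  rw [tr8_n1, h.tr] at h3
  omega

theorem oct_unique {g h : Co0} (hg : IsOct g) (hh : IsOct h) (e : mk g = mk h) : g = h := by
  rcases eq_or_of_mk e with h1 | h1
  · exact h1
  · rw [h1] at hg
    exact absurd hg (not_oct_neg hh)

/-! ### permutations -/

theorem tri_perm : ∀ i j l : Fin 5, i ≠ j → i ≠ l → j ≠ l → ∃ σ : alternatingGroup (Fin 5),
    (σ : Equiv.Perm (Fin 5)) 0 = i ∧ (σ : Equiv.Perm (Fin 5)) 1 = j ∧ (σ : Equiv.Perm (Fin 5)) 2 = l := by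
  decide +kernel

theorem quad_perm : ∀ i j l m : Fin 5, i ≠ j → i ≠ l → i ≠ m → j ≠ l → j ≠ m → l ≠ m →
    ∃ σ : alternatingGroup (Fin 5), (σ : Equiv.Perm (Fin 5)) 0 = i ∧ (σ : Equiv.Perm (Fin 5)) 1 = j ∧
      ((σ : Equiv.Perm (Fin 5)) 2 = l ∧ (σ : Equiv.Perm (Fin 5)) 3 = m ∨
        (σ : Equiv.Perm (Fin 5)) 2 = m ∧ (σ : Equiv.Perm (Fin 5)) 3 = l) := by
  decide +kernel

/-! ### the images in `Co₁` -/

namespace JC

variable (C : JC zz)

/-- the image of `e i j` -/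
noncomputable def x (i j : Fin 5) : Co1 := pi (C.ce i j)

theorem ce_mul (i j l : Fin 5) : C.ce i j * C.ce j l = C.ce i l := Subtype.ext (C.e_mul i j l)

theorem ce_self (i : Fin 5) : C.ce i i = 1 := Subtype.ext (C.e_self i)

theorem pi_eq_one_of {c : CZ} (h : (c : MG) = zz) : pi c = 1 := by
  rw [chart.pi_eq_one, h]
  exact chart.large.z_mem

theorem x_mul (i j l : Fin 5) : C.x i j * C.x j l = C.x i l := by
  unfold x; rw [← map_mul, ce_mul]

theorem x_self (i : Fin 5) : C.x i i = 1 := by unfold x; rw [ce_self, map_one]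

theorem x_sq (i j : Fin 5) : C.x i j * C.x i j = 1 := by
  by_cases h : i = j
  · rw [h, x_self, one_mul]
  · unfold x
    rw [← map_mul]
    exact pi_eq_one_of (C.e_sq i j h)

theorem x_swap (i j : Fin 5) : C.x j i = C.x i j := by
  calc C.x j i = C.x j i * (C.x i j * C.x i j) := by rw [x_sq, mul_one]
    _ = (C.x j i * C.x i j) * C.x i j := by rw [mul_assoc]
    _ = C.x i j := by rw [x_mul, x_self, one_mul]

/-- the image of `k σ` -/
noncomputable def y (σ : alternatingGroup (Fin 5)) : Co1 := pi (C.ck σ)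

theorem y_conj (σ : alternatingGroup (Fin 5)) (i j : Fin 5) :
    C.y σ * C.x i j * (C.y σ)⁻¹ = C.x ((σ : Equiv.Perm (Fin 5)) i) ((σ : Equiv.Perm (Fin 5)) j) := by
  unfold y x
  rw [← map_mul, ← map_inv, ← map_mul]
  congr 1
  exact Subtype.ext (C.k_conj σ i j)

theorem pi_cu (i : Fin 5) : pi (C.cu i) = C.x (nx i 0) (nx i 1) * C.x (nx i 2) (nx i 3) := by
  unfold cu x
  rw [map_mul]

end JC

/-- lifts are permuted -/
theorem lift_conj (C : JC zz) {σ : alternatingGroup (Fin 5)} {κ g : Co0} (hκ : mk κ = C.y σ) {i j : Fin 5}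
    (hg : mk g = C.x i j) :
    mk (κ * g * κ⁻¹) = C.x ((σ : Equiv.Perm (Fin 5)) i) ((σ : Equiv.Perm (Fin 5)) j) := by
  rw [mk_mul, mk_mul, mk_inv, hκ, hg, C.y_conj]

/-- two elements whose images commute -/
theorem comm_or {g h : Co0} (e : mk g * mk h = mk h * mk g) : g * h = h * g ∨ g * h = n1 * (h * g) := by
  rw [← mk_mul, ← mk_mul] at e
  exact eq_or_of_mk e

/-- commutation does not depend on the lifts -/
theorem comm_lift {g h g' h' : Co0} (hg : mk g = mk g') (hh : mk h = mk h') (c : g * h = h * g) :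
    g' * h' = h' * g' := by
  rcases eq_or_of_mk hg.symm with rfl | rfl <;> rcases eq_or_of_mk hh.symm with rfl | rfl
  · exact c
  · rw [← mul_assoc, ← n1_comm, mul_assoc, c, mul_assoc]
  · rw [mul_assoc, c, ← mul_assoc, n1_comm, mul_assoc]
  · rw [show n1 * g * (n1 * h) = (n1 * n1) * (g * h) by
        rw [mul_assoc, ← mul_assoc g, ← n1_comm g]; simp only [mul_assoc],
      show n1 * h * (n1 * g) = (n1 * n1) * (h * g) by
        rw [mul_assoc, ← mul_assoc h, ← n1_comm h]; simp only [mul_assoc], c]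

theorem sq_lift {g g' : Co0} (hg : mk g = mk g') : g * g = g' * g' := by
  rcases eq_or_of_mk hg with rfl | rfl
  · rfl
  · rw [show n1 * g' * (n1 * g') = (n1 * n1) * (g' * g') by
        rw [mul_assoc, ← mul_assoc g', ← n1_comm g']; simp only [mul_assoc], n1_sq, one_mul]

/-- elements `a`, `b` with squares as indicated -/
theorem comm_of_sq {a b : Co0} (ha : a * a = 1) (hb : b * b = 1) (hab : a * b * (a * b) = 1) : a * b = b * a := by
  have ha' : a⁻¹ = a := inv_eq_of_mul_eq_one_left ha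
  have hb' : b⁻¹ = b := inv_eq_of_mul_eq_one_left hb
  have h1 : (a * b)⁻¹ = a * b := inv_eq_of_mul_eq_one_left hab
  rw [mul_inv_rev, ha', hb'] at h1
  exact h1.symm

theorem n1_ne : (n1 : Co0) ≠ 1 := by
  intro h
  have h1 := tr8_n1 1
  rw [h, one_mul, Cfsg.Agent.SigZeroCo2.Lin.tr8_one] at h1
  omega

end Cfsg.Agent.H820.Par
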