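import Cfsg.Agent.H820.Par.TriMain

/-!
# S2198: the case division in Case 1, elementary abelian case (helper820)
-/

set_option autoImplicit false

namespace Cfsg.Agent.H820.Par

open Cfsg Cfsg.Spor Cfsg.Agent.MonsterX Cfsg.Agent.BpSpor.MBigModel Cfsg.Agent.MonsterU Cfsg.Agent.MonsterU.Lam2
open Cfsg.Agent.SporadicA.Co0Mono Cfsg.Agent.SporadicA.Co1Simple Cfsg.Agent.CoOneType.ClosingFacts
open Cfsg.Agent.Co2Type.Mono (tr8 tr8_conj)
open Cfsg.Agent.CoOneType.SignFacts (wt)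
open Subgroup (centralizer mem_centralizer_singleton_iff)

/-! ### five commuting involutions -/

section Phi

variable {G : Type*} [Group G] (T : Fin 5 → G)

/-- the product of the `T i` with exponents `v i` -/
def phi (v : Fin 5 → ZMod 2) : G :=
  T 0 ^ (v 0).val * T 1 ^ (v 1).val * T 2 ^ (v 2).val * T 3 ^ (v 3).val * T 4 ^ (v 4).val

theorem pow_val_add {a : G} (h : a * a = 1) : ∀ m n : ZMod 2, a ^ (m + n).val = a ^ m.val * a ^ n.val := by
  intro m n
  rcases (by revert m n; decide : ∀ m n : ZMod 2, ((m + n).val = m.val + n.val) ∨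
    ((m + n).val = 0 ∧ m.val = 1 ∧ n.val = 1)) m n with h1 | ⟨h1, h2, h3⟩
  · rw [h1, pow_add]
  · rw [h1, h2, h3, pow_zero, pow_one, h]

variable {T}

theorem phi_add (hsq : ∀ i, T i * T i = 1) (hc : ∀ i j, T i * T j = T j * T i) (v w : Fin 5 → ZMod 2) :
    phi T (v + w) = phi T v * phi T w := by
  have hcc : ∀ i j m n, Commute (T i ^ m) (T j ^ n) := fun i j m n => (show Commute (T i) (T j) from hc i j).pow_pow m n
  unfold phi
  simp only [Pi.add_apply, pow_val_add (hsq _)]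
  have e1 : ∀ a b c d : G, Commute b c → a * b * (c * d) = a * c * (b * d) := fun a b c d h =>
    h.mul_mul_mul_comm a d
  symm
  rw [e1 _ (T 4 ^ (v 4).val) _ (T 4 ^ (w 4).val)
    ((((hcc 4 0 _ _).mul_right (hcc 4 1 _ _)).mul_right (hcc 4 2 _ _)).mul_right (hcc 4 3 _ _)),
    e1 _ (T 3 ^ (v 3).val) _ (T 3 ^ (w 3).val)
    (((hcc 3 0 _ _).mul_right (hcc 3 1 _ _)).mul_right (hcc 3 2 _ _)),
    e1 _ (T 2 ^ (v 2).val) _ (T 2 ^ (w 2).val) ((hcc 2 0 _ _).mul_right (hcc 2 1 _ _)),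
    e1 _ (T 1 ^ (v 1).val) _ (T 1 ^ (w 1).val) (hcc 1 0 _ _)]

theorem phi_zero : phi T 0 = 1 := by
  simp [phi]

theorem phi_self (hsq : ∀ i, T i * T i = 1) (hc : ∀ i j, T i * T j = T j * T i) (v : Fin 5 → ZMod 2) :
    phi T v * phi T v = 1 := by
  rw [← phi_add hsq hc]
  have : v + v = 0 := by
    funext i
    exact (by decide : ∀ a : ZMod 2, a + a = 0) (v i)
  rw [this, phi_zero]

theorem phi_comm (hsq : ∀ i, T i * T i = 1) (hc : ∀ i j, T i * T j = T j * T i) (v w : Fin 5 → ZMod 2) :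
    phi T v * phi T w = phi T w * phi T v := by
  rw [← phi_add hsq hc, ← phi_add hsq hc, add_comm]

/-- the basis vector -/
def ev (i : Fin 5) : Fin 5 → ZMod 2 := fun j => if j = i then 1 else 0

theorem phi_ev : ∀ i, phi T (ev i) = T i := by
  intro i
  unfold phi ev
  fin_cases i <;> simp [ZMod.val_one]

end Phi

/-! ### the trace of an idempotent -/

open Cfsg.Agent.SigZeroCo2.Lin (rep Sp trace_rep tr8_one) in
/-- The multiplicity of the trivial character of a group generated by four commuting involutions. -/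
theorem trace_sum {a b c d : Co0} (ha : a * a = 1) (hb : b * b = 1) (hc : c * c = 1) (hd : d * d = 1)
    (hab : a * b = b * a) (hac : a * c = c * a) (had : a * d = d * a) (hbc : b * c = c * b) (hbd : b * d = d * b)
    (hcd : c * d = d * c) : ∃ n : ℕ, (128 * n : ℤ) = tr8 1 + tr8 a + tr8 b + tr8 c + tr8 d + tr8 (a * b) +
      tr8 (a * c) + tr8 (a * d) + tr8 (b * c) + tr8 (b * d) + tr8 (c * d) + tr8 (a * b * c) + tr8 (a * b * d) +
      tr8 (a * c * d) + tr8 (b * c * d) + tr8 (a * b * c * d) := by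
  have id2 : ∀ {x : Co0}, x * x = 1 → (1 + rep x) * (1 + rep x) = (2 : ℚ) • (1 + rep x) := by
    intro x hx
    have h1 : rep x * rep x = 1 := by rw [← map_mul, hx, map_one]
    rw [add_mul, mul_add, mul_add, h1, one_mul, one_mul, mul_one, two_smul]
    abel
  have cm : ∀ {x y : Co0}, x * y = y * x → (1 + rep x) * (1 + rep y) = (1 + rep y) * (1 + rep x) := by
    intro x y hxy
    have h1 : rep x * rep y = rep y * rep x := by rw [← map_mul, hxy, map_mul]
    rw [add_mul, mul_add, mul_add, h1, add_mul, mul_add, mul_add, one_mul, one_mul, one_mul, mul_one, mul_one]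
    abel
  set A := 1 + rep a with hA
  set B := 1 + rep b with hB
  set C := 1 + rep c with hC
  set D := 1 + rep d with hD
  have hAA : A * A = (2 : ℚ) • A := id2 ha
  have hBB : B * B = (2 : ℚ) • B := id2 hb
  have hCC : C * C = (2 : ℚ) • C := id2 hc
  have hDD : D * D = (2 : ℚ) • D := id2 hd
  have hAB : A * B = B * A := cm hab
  have hAC : A * C = C * A := cm hac
  have hAD : A * D = D * A := cm had
  have hBC : B * C = C * B := cm hbc
  have hBD : B * D = D * B := cm hbd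
  have hCD : C * D = D * C := cm hcd
  set P := (1 / 16 : ℚ) • (A * B * C * D) with hP
  have hPP : P * P = P := by
    have h1 : (A * B * C * D) * (A * B * C * D) = (16 : ℚ) • (A * B * C * D) := by
      have e1 : ∀ x y z w : Module.End ℚ Sp, y * z = z * y → x * y * (z * w) = x * z * (y * w) := fun x y z w h =>
        (show Commute y z from h).mul_mul_mul_comm x w
      rw [e1 (A * B * C) D (A * B * C) D (by
          calc D * (A * B * C) = D * A * B * C := by simp only [mul_assoc]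
            _ = A * (D * B) * C := by rw [← hAD]; simp only [mul_assoc]
            _ = A * B * (D * C) := by rw [← hBD]; simp only [mul_assoc]
            _ = A * B * C * D := by rw [← hCD]; simp only [mul_assoc]),
        e1 (A * B) C (A * B) C (by
          calc C * (A * B) = C * A * B := by simp only [mul_assoc]
            _ = A * (C * B) := by rw [← hAC]; simp only [mul_assoc]
            _ = A * B * C := by rw [← hBC]; simp only [mul_assoc]),
        e1 A B A B hAB.symm, hAA, hBB, hCC, hDD]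
      simp only [smul_mul_assoc, mul_smul_comm, smul_smul]
      norm_num
    rw [hP, smul_mul_smul_comm, h1, smul_smul]
    norm_num
  have hproj : LinearMap.IsProj (LinearMap.range P) P := by
    constructor
    · intro x; exact LinearMap.mem_range_self _ _
    · rintro _ ⟨x, rfl⟩
      rw [← Module.End.mul_apply, hPP]
  refine ⟨Module.finrank ℚ (LinearMap.range P), ?_⟩
  have htr := hproj.trace
  have hexp : A * B * C * D = rep 1 + rep a + rep b + rep c + rep d + rep (a * b) + rep (a * c) + rep (a * d) +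
      rep (b * c) + rep (b * d) + rep (c * d) + rep (a * b * c) + rep (a * b * d) + rep (a * c * d) +
      rep (b * c * d) + rep (a * b * c * d) := by
    simp only [map_mul, map_one]
    rw [hA, hB, hC, hD]
    noncomm_ring
  generalize Module.finrank ℚ (LinearMap.range P) = n at htr ⊢
  rw [hP, hexp, map_smul] at htr
  simp only [map_add, trace_rep, smul_eq_mul] at htr
  have h2 : ((128 * (n : ℤ) : ℤ) : ℚ) = ((tr8 1 + tr8 a + tr8 b + tr8 c + tr8 d +
      tr8 (a * b) + tr8 (a * c) + tr8 (a * d) + tr8 (b * c) + tr8 (b * d) + tr8 (c * d) + tr8 (a * b * c) +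
      tr8 (a * b * d) + tr8 (a * c * d) + tr8 (b * c * d) + tr8 (a * b * c * d) : ℤ) : ℚ) := by
    push_cast
    rw [← htr]
    ring
  exact_mod_cast h2

/-! ### identities of vectors modulo two -/

theorem vec_pair : ∀ i j : Fin 5, ev i + ev j = (ev i + ev j : Fin 5 → ZMod 2) := fun _ _ => rfl

/-- the vector of weight four without `i` -/
def wv (i : Fin 5) : Fin 5 → ZMod 2 := fun j => if j = i then 0 else 1

theorem wv_nx : ∀ i, (ev (nx i 0) + ev (nx i 1)) + (ev (nx i 2) + ev (nx i 3)) = wv i := by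
  decide +kernel

theorem wv_add : ∀ i j, wv i + wv j = ev i + ev j := by decide +kernel

theorem wv_sum : wv 0 + wv 1 + wv 2 + wv 3 + wv 4 = 0 := by decide +kernel

theorem wv_perm : ∀ (σ : Equiv.Perm (Fin 5)) (i : Fin 5),
    (ev (σ (nx i 0)) + ev (σ (nx i 1))) + (ev (σ (nx i 2)) + ev (σ (nx i 3))) = wv (σ i) := by
  decide +kernel

/-! ### the elementary abelian case -/

/-- **The elementary abelian case.** -/
theorem case_ea (hD : DodStmt) (C : JC zz) (h1 : ∀ i j, i ≠ j → pi (C.ce i j) ≠ 1) (h2 : ∀ i, pi (C.cu i) ≠ 1)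
    {g₀ : Co0} (hg₀ : mk g₀ = C.x 0 1) (hsq0 : g₀ * g₀ = 1) :
    (∃ A : EA C, ∀ i, IsOct (n1 * A.U i)) ∨ ∃ A : EA C, ∀ i, IsOct (A.U i) := by
  have hsq : ∀ {i j : Fin 5}, i ≠ j → ∀ {g : Co0}, mk g = C.x i j → g * g = 1 := by
    intro i j hij g hg
    rw [sq_const C hij (by decide : (0 : Fin 5) ≠ 1) hg hg₀, hsq0]
  -- the lifts of trace 8
  have hex : ∀ i j : Fin 5, ∃ Y : Co0, i ≠ j → IsOct Y ∧ mk Y = C.x i j := by
    intro i j
    by_cases hij : i = j
    · exact ⟨1, fun h => absurd hij h⟩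
    obtain ⟨g, hg⟩ := exists_mk (C.x i j)
    have hne : mk g ≠ 1 := by rw [hg]; exact h1 i j hij
    rcases cases_one (hsq hij hg) hne with h | h | h
    · exact ⟨g, fun _ => ⟨h, hg⟩⟩
    · exact ⟨n1 * g, fun _ => ⟨h, by rw [mk_n1, hg]⟩⟩
    · exact absurd (C.e_sq i j hij) (hD g h (C.ce i j) hg.symm)
  choose Y hY using hex
  have hYo : ∀ {i j : Fin 5}, i ≠ j → IsOct (Y i j) := fun h => (hY _ _ h).1
  have hYm : ∀ {i j : Fin 5}, i ≠ j → mk (Y i j) = C.x i j := fun h => (hY _ _ h).2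
  have hYsq : ∀ {i j : Fin 5}, i ≠ j → Y i j * Y i j = 1 := fun h => hsq h (hYm h)
  have hYs : ∀ {i j : Fin 5}, i ≠ j → Y j i = Y i j := fun h =>
    oct_unique (hYo h.symm) (hYo h) (by rw [hYm h.symm, hYm h, C.x_swap])
  have hYc : ∀ {σ : alternatingGroup (Fin 5)} {κ : Co0}, mk κ = C.y σ → ∀ {i j : Fin 5}, i ≠ j →
      κ * Y i j * κ⁻¹ = Y ((σ : Equiv.Perm (Fin 5)) i) ((σ : Equiv.Perm (Fin 5)) j) := by
    intro σ κ hκ i j hij
    have hij' : (σ : Equiv.Perm (Fin 5)) i ≠ (σ : Equiv.Perm (Fin 5)) j := fun h => hij (σ.1.injective h)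
    exact oct_unique ((hYo hij).conj κ) (hYo hij') (by rw [lift_conj C hκ (hYm hij), hYm hij'])
  -- the sign
  obtain ⟨s, hs, hs2, hs3⟩ : ∃ s : Co0, (s = 1 ∨ s = n1) ∧ s * s = 1 ∧ Y 0 1 * Y 1 2 = s * Y 0 2 := by
    have e : mk (Y 0 1 * Y 1 2) = mk (Y 0 2) := by
      rw [mk_mul, hYm (by decide), hYm (by decide), hYm (by decide), C.x_mul]
    rcases eq_or_of_mk e with h | h
    · exact ⟨1, Or.inl rfl, one_mul 1, by rw [one_mul, h]⟩
    · exact ⟨n1, Or.inr rfl, n1_sq, h⟩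
  have hsc : ∀ g : Co0, s * g = g * s := by
    intro g
    rcases hs with rfl | rfl
    · rw [one_mul, mul_one]
    · exact n1_comm g
  have hsm : ∀ g : Co0, mk (s * g) = mk g := by
    intro g
    rcases hs with rfl | rfl
    · rw [one_mul]
    · exact mk_n1 g
  have hYY : ∀ {i j l : Fin 5}, i ≠ j → i ≠ l → j ≠ l → Y i j * Y j l = s * Y i l := by
    intro i j l hij hil hjl
    obtain ⟨σ, e0, e1, e2⟩ := tri_perm i j l hij hil hjl
    obtain ⟨κ, hκ⟩ := exists_mk (C.y σ)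
    have a1 := hYc hκ (i := 0) (j := 1) (by decide)
    have a2 := hYc hκ (i := 1) (j := 2) (by decide)
    have a3 := hYc hκ (i := 0) (j := 2) (by decide)
    rw [e0, e1] at a1
    rw [e1, e2] at a2
    rw [e0, e2] at a3
    rw [← a1, ← a2, ← a3]
    calc κ * Y 0 1 * κ⁻¹ * (κ * Y 1 2 * κ⁻¹) = κ * (Y 0 1 * Y 1 2) * κ⁻¹ := by group
      _ = κ * (s * Y 0 2) * κ⁻¹ := by rw [hs3]
      _ = s * (κ * Y 0 2 * κ⁻¹) := by rw [← mul_assoc κ, ← hsc κ]; group
  -- the elements `Z`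
  set Z : Fin 5 → Fin 5 → Co0 := fun i j => if i = j then 1 else s * Y i j with hZ
  have Z_self : ∀ i, Z i i = 1 := fun i => if_pos rfl
  have Z_ne : ∀ {i j : Fin 5}, i ≠ j → Z i j = s * Y i j := fun h => if_neg h
  have Zm : ∀ i j, mk (Z i j) = C.x i j := by
    intro i j
    by_cases h : i = j
    · subst h; rw [Z_self, C.x_self]; rfl
    · rw [Z_ne h, hsm, hYm h]
  have Zsq : ∀ i j, Z i j * Z i j = 1 := by
    intro i j
    by_cases h : i = j
    · subst h; rw [Z_self, one_mul]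
    · exact hsq h (Zm i j)
  have Zs : ∀ i j, Z j i = Z i j := by
    intro i j
    by_cases h : i = j
    · subst h; rfl
    · rw [Z_ne h, Z_ne (Ne.symm h), hYs h]
  have Zmul : ∀ i j l, Z i j * Z j l = Z i l := by
    intro i j l
    by_cases hij : i = j
    · subst hij; rw [Z_self, one_mul]
    by_cases hjl : j = l
    · subst hjl; rw [Z_self, mul_one]
    by_cases hil : i = l
    · subst hil; rw [Zs, Zsq, Z_self]
    rw [Z_ne hij, Z_ne hjl, Z_ne hil]
    calc s * Y i j * (s * Y j l) = (s * s) * (Y i j * Y j l) := by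
          rw [mul_assoc, ← mul_assoc (Y i j), ← hsc (Y i j)]; simp only [mul_assoc]
      _ = s * Y i l := by rw [hs2, one_mul, hYY hij hil hjl]
  have Zc : ∀ {σ : alternatingGroup (Fin 5)} {κ : Co0}, mk κ = C.y σ → ∀ i j : Fin 5,
      κ * Z i j * κ⁻¹ = Z ((σ : Equiv.Perm (Fin 5)) i) ((σ : Equiv.Perm (Fin 5)) j) := by
    intro σ κ hκ i j
    by_cases h : i = j
    · subst h; rw [Z_self, Z_self]; group
    · have h' : (σ : Equiv.Perm (Fin 5)) i ≠ (σ : Equiv.Perm (Fin 5)) j := fun e => h (σ.1.injective e)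
      rw [Z_ne h, Z_ne h', ← hYc hκ h, ← mul_assoc κ, ← hsc κ]
      group
  set T : Fin 5 → Co0 := fun i => Z 0 i with hT
  have Tsq : ∀ i, T i * T i = 1 := fun i => Zsq 0 i
  have TT : ∀ i j, T i * T j = Z i j := by
    intro i j
    show Z 0 i * Z 0 j = _
    rw [← Zs 0 i, Zmul]
  have Tc : ∀ i j, T i * T j = T j * T i := fun i j => by rw [TT, TT, Zs]
  have ZP : ∀ i j, Z i j = phi T (ev i + ev j) := by
    intro i j
    rw [phi_add Tsq Tc, phi_ev, phi_ev, TT]
  have Pm : ∀ i, phi T (wv i) = Z (nx i 0) (nx i 1) * Z (nx i 2) (nx i 3) := by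
    intro i
    rw [ZP, ZP, ← phi_add Tsq Tc, wv_nx]
  have Pmk : ∀ i, mk (phi T (wv i)) = pi (C.cu i) := by
    intro i
    rw [Pm, mk_mul, Zm, Zm, C.pi_cu]
  have Pconj : ∀ (σ : alternatingGroup (Fin 5)) (κ : Co0), mk κ = pi (C.ck σ) →
      ∀ i, κ * phi T (wv i) * κ⁻¹ = phi T (wv ((σ : Equiv.Perm (Fin 5)) i)) := by
    intro σ κ hκ i
    rw [Pm]
    have e1 : κ * (Z (nx i 0) (nx i 1) * Z (nx i 2) (nx i 3)) * κ⁻¹ =
        (κ * Z (nx i 0) (nx i 1) * κ⁻¹) * (κ * Z (nx i 2) (nx i 3) * κ⁻¹) := by group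
    rw [e1, Zc hκ, Zc hκ, ZP, ZP, ← phi_add Tsq Tc, wv_perm]
  -- traces
  obtain ⟨t1, ht1, hZt⟩ : ∃ t : ℤ, (t = 64 ∨ t = -64) ∧ ∀ {i j : Fin 5}, i ≠ j → tr8 (Z i j) = t := by
    rcases hs with hs' | hs'
    · refine ⟨64, Or.inl rfl, fun {i j} h => ?_⟩
      rw [Z_ne h, hs', one_mul, (hYo h).tr]
    · refine ⟨-64, Or.inr rfl, fun {i j} h => ?_⟩
      rw [Z_ne h, hs', tr8_n1, (hYo h).tr]
  have hPt : ∀ i, tr8 (phi T (wv i)) = tr8 (phi T (wv 0)) := by
    intro i
    obtain ⟨σ, hσ⟩ : ∃ σ : alternatingGroup (Fin 5), (σ : Equiv.Perm (Fin 5)) 0 = i := by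
      obtain ⟨l, hl, -⟩ := third_point i i
      obtain ⟨m, hm1, hm2⟩ := third_point i l
      obtain ⟨σ, h0, -, -⟩ := tri_perm i l m hl.symm hm1.symm hm2.symm
      exact ⟨σ, h0⟩
    obtain ⟨κ, hκ⟩ := exists_mk (C.y σ)
    rw [← hσ, ← Pconj σ κ hκ 0, tr8_conj]
  have hT' : ∀ i : Fin 5, T i = phi T (ev i) := fun i => (phi_ev i).symm
  have h0 : phi T (ev 0) = 1 := by rw [phi_ev]; exact Z_self 0
  -- the sum
  obtain ⟨n, hn⟩ := trace_sum (Tsq 1) (Tsq 2) (Tsq 3) (Tsq 4) (Tc 1 2) (Tc 1 3) (Tc 1 4) (Tc 2 3) (Tc 2 4) (Tc 3 4)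
  have T1 : ∀ {i : Fin 5}, (0 : Fin 5) ≠ i → tr8 (T i) = t1 := fun h => hZt h
  have T2 : ∀ {i j : Fin 5}, i ≠ j → tr8 (T i * T j) = t1 := fun {i j} h => by rw [TT]; exact hZt h
  have T3 : ∀ {i j l m : Fin 5}, ev i + ev j + ev l + ev 0 = wv m → tr8 (T i * T j * T l) = tr8 (phi T (wv 0)) := by
    intro i j l m e
    rw [← hPt m, ← e, phi_add Tsq Tc, phi_add Tsq Tc, phi_add Tsq Tc, h0, mul_one, phi_ev, phi_ev, phi_ev]
  have T4 : tr8 (T 1 * T 2 * T 3 * T 4) = tr8 (phi T (wv 0)) := by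
    have e : wv 0 = ev 1 + ev 2 + ev 3 + ev 4 := by decide +kernel
    rw [e, phi_add Tsq Tc, phi_add Tsq Tc, phi_add Tsq Tc, phi_ev, phi_ev, phi_ev, phi_ev]
  rw [Cfsg.Agent.SigZeroCo2.Lin.tr8_one, T1 (by decide), T1 (by decide), T1 (by decide), T1 (by decide),
    T2 (by decide), T2 (by decide), T2 (by decide), T2 (by decide), T2 (by decide), T2 (by decide),
    T3 (m := 4) (by decide +kernel), T3 (m := 3) (by decide +kernel), T3 (m := 2) (by decide +kernel),
    T3 (m := 1) (by decide +kernel), T4] at hn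
  have hU0 := cases_one (phi_self Tsq Tc (wv 0)) (by rw [Pmk]; exact h2 0)
  have ht : t1 = 64 ∧ (IsOct (phi T (wv 0)) ∨ IsOct (n1 * phi T (wv 0))) := by
    rcases hU0 with h | h | h
    · have := h.tr
      rw [this] at hn
      rcases ht1 with rfl | rfl
      · exact ⟨rfl, Or.inl h⟩
      · exfalso; omega
    · have := h.tr
      rw [tr8_n1] at this
      rcases ht1 with rfl | rfl
      · exact ⟨rfl, Or.inr h⟩
      · exfalso; omega
    · have := h.tr
      rw [this] at hn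
      exfalso
      rcases ht1 with rfl | rfl <;> omega
  obtain ⟨rfl, hU⟩ := ht
  have hs1 : s = 1 := by
    rcases hs with h | h
    · exact h
    · exfalso
      have := hZt (i := 0) (j := 1) (by decide)
      rw [Z_ne (by decide), h, tr8_n1, (hYo (by decide)).tr] at this
      omega
  let A : EA C := {
    U := fun i => phi T (wv i)
    sq := fun i => phi_self Tsq Tc _
    comm := fun i j => phi_comm Tsq Tc _ _
    prod := by
      rw [← phi_add Tsq Tc, ← phi_add Tsq Tc, ← phi_add Tsq Tc, ← phi_add Tsq Tc, wv_sum, phi_zero]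
    mk_U := Pmk
    mk_UU := fun i j _ => by
      rw [← phi_add Tsq Tc, wv_add, ← ZP, Zm]; rfl
    conj := Pconj
    octUU := fun i j hij => by
      rw [← phi_add Tsq Tc, wv_add, ← ZP, Z_ne hij, hs1, one_mul]
      exact hYo hij }
  have hconj : ∀ i, ∃ κ : Co0, κ * phi T (wv 0) * κ⁻¹ = phi T (wv i) := by
    intro i
    obtain ⟨σ, hσ⟩ : ∃ σ : alternatingGroup (Fin 5), (σ : Equiv.Perm (Fin 5)) 0 = i := by
      obtain ⟨l, hl, -⟩ := third_point i i
      obtain ⟨m, hm1, hm2⟩ := third_point i l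
      obtain ⟨σ, h0, -, -⟩ := tri_perm i l m hl.symm hm1.symm hm2.symm
      exact ⟨σ, h0⟩
    obtain ⟨κ, hκ⟩ := exists_mk (C.y σ)
    exact ⟨κ, by rw [Pconj σ κ hκ 0, hσ]⟩
  rcases hU with h | h
  · right
    refine ⟨A, fun i => ?_⟩
    obtain ⟨κ, hκ⟩ := hconj i
    show IsOct (phi T (wv i))
    rw [← hκ]
    exact h.conj κ
  · left
    refine ⟨A, fun i => ?_⟩
    obtain ⟨κ, hκ⟩ := hconj i
    show IsOct (n1 * phi T (wv i))
    rw [← hκ]
    have e : n1 * (κ * phi T (wv 0) * κ⁻¹) = κ * (n1 * phi T (wv 0)) * κ⁻¹ := by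
      rw [← mul_assoc κ, ← n1_comm κ]; group
    rw [e]
    exact h.conj κ

/-- **The case division.** -/
theorem cases (hD : DodStmt) (C : JC zz) (h1 : ∀ i j, i ≠ j → pi (C.ce i j) ≠ 1) (h2 : ∀ i, pi (C.cu i) ≠ 1) :
    (∃ A : EA C, ∀ i, IsOct (signCo0 allOne * A.U i)) ∨ (∃ A : EA C, ∀ i, IsOct (A.U i)) ∨
      ((∀ i j, i ≠ j → ∀ g : Co0, mk g = pi (C.ce i j) → IsNeg g) ∧
        ∀ i, ∀ g : Co0, mk g = pi (C.cu i) → IsDod g) := by
  obtain ⟨g₀, hg₀⟩ := exists_mk (C.x 0 1)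
  rcases sq_cases (g := g₀) (by rw [hg₀, C.x_sq]) with h | h
  · rcases case_ea hD C h1 h2 hg₀ h with h3 | h3
    · exact Or.inl h3
    · exact Or.inr (Or.inl h3)
  · exact Or.inr (Or.inr (case_neg C h2 hg₀ h))

end Cfsg.Agent.H820.Par
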