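import Cfsg.Agent.H820.Par.Tri

/-!
# S2198: the case division in Case 1, main part (helper820)
-/

set_option autoImplicit false

namespace Cfsg.Agent.H820.Par

open Cfsg Cfsg.Spor Cfsg.Agent.MonsterX Cfsg.Agent.BpSpor.MBigModel Cfsg.Agent.MonsterU Cfsg.Agent.MonsterU.Lam2
open Cfsg.Agent.SporadicA.Co0Mono Cfsg.Agent.SporadicA.Co1Simple Cfsg.Agent.CoOneType.ClosingFacts
open Cfsg.Agent.Co2Type.Mono (tr8 tr8_conj)
open Cfsg.Agent.CoOneType.SignFacts (wt)
open Subgroup (centralizer mem_centralizer_singleton_iff)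

/-! ### squares -/

theorem third_point : ∀ i j : Fin 5, ∃ l : Fin 5, l ≠ i ∧ l ≠ j := by decide

theorem fifth_point : ∀ a b c d : Fin 5, ∃ e : Fin 5, e ≠ a ∧ e ≠ b ∧ e ≠ c ∧ e ≠ d := by decide

theorem nx_facts : ∀ i : Fin 5, nx i 0 ≠ nx i 1 ∧ nx i 0 ≠ nx i 2 ∧ nx i 0 ≠ nx i 3 ∧ nx i 1 ≠ nx i 2 ∧
    nx i 1 ≠ nx i 3 ∧ nx i 2 ≠ nx i 3 ∧ nx i 0 ≠ i ∧ nx i 1 ≠ i ∧ nx i 2 ≠ i ∧ nx i 3 ≠ i := by decide

theorem x_comm_disj (C : JC zz) {a b c d : Fin 5} (hac : a ≠ c) (had : a ≠ d) (hbc : b ≠ c) (hbd : b ≠ d) :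
    C.x a b * C.x c d = C.x c d * C.x a b := by
  unfold JC.x
  rw [← map_mul, ← map_mul]
  exact congrArg pi (Subtype.ext (C.e_comm a b c d hac had hbc hbd))

/-- all lifts of the `x i j` have the same square -/
theorem sq_const (C : JC zz) {i j i' j' : Fin 5} (hij : i ≠ j) (hij' : i' ≠ j') {g g' : Co0} (hg : mk g = C.x i j)
    (hg' : mk g' = C.x i' j') : g * g = g' * g' := by
  -- a third point
  have key : ∀ {i j : Fin 5}, i ≠ j → ∀ {g g₀ : Co0}, mk g = C.x i j → mk g₀ = C.x 0 1 → g * g = g₀ * g₀ := by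
    intro i j hij g g₀ hg hg₀
    obtain ⟨l, hl⟩ := third_point i j
    obtain ⟨σ, h0, h1, -⟩ := tri_perm i j l hij hl.1.symm hl.2.symm
    obtain ⟨κ, hκ⟩ := exists_mk (C.y σ)
    have h2 := lift_conj C hκ hg₀
    rw [h0, h1, ← hg] at h2
    rw [sq_lift h2.symm]
    have h3 : κ * g₀ * κ⁻¹ * (κ * g₀ * κ⁻¹) = κ * (g₀ * g₀) * κ⁻¹ := by group
    rw [h3]
    rcases sq_cases (g := g₀) (by rw [hg₀, C.x_sq]) with h4 | h4
    · rw [h4, mul_one, mul_inv_cancel]
    · rw [h4, ← n1_comm, mul_assoc, mul_inv_cancel, mul_one]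
  obtain ⟨g₀, hg₀⟩ := exists_mk (C.x 0 1)
  rw [key hij hg hg₀, key hij' hg' hg₀]

/-- lifts over disjoint pairs commute -/
theorem comm_disj (C : JC zz) {a b c d : Fin 5} (hab : a ≠ b) (hac : a ≠ c) (had : a ≠ d) (hbc : b ≠ c) (hbd : b ≠ d)
    (hcd : c ≠ d) {g h : Co0} (hg : mk g = C.x a b) (hh : mk h = C.x c d) : g * h = h * g := by
  by_contra hcon
  -- then no lifts over disjoint pairs commute
  have all : ∀ {a b c d : Fin 5}, a ≠ b → a ≠ c → a ≠ d → b ≠ c → b ≠ d → c ≠ d → ∀ {g h : Co0},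
      mk g = C.x a b → mk h = C.x c d → ¬ g * h = h * g := by
    -- both are conjugate to the pair (01 | 23)
    have key : ∀ {a b c d : Fin 5}, a ≠ b → a ≠ c → a ≠ d → b ≠ c → b ≠ d → c ≠ d → ∀ {g h g₀ h₀ : Co0},
      mk g = C.x a b → mk h = C.x c d → mk g₀ = C.x 0 1 → mk h₀ = C.x 2 3 → (g * h = h * g ↔ g₀ * h₀ = h₀ * g₀) := by
      intro a b c d hab hac had hbc hbd hcd g h g₀ h₀ hg hh hg₀ hh₀
      obtain ⟨σ, h0, h1, h2⟩ := quad_perm a b c d hab hac had hbc hbd hcd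
      obtain ⟨κ, hκ⟩ := exists_mk (C.y σ)
      have e1 : mk (κ * g₀ * κ⁻¹) = mk g := by rw [lift_conj C hκ hg₀, h0, h1, hg]
      have e2 : mk (κ * h₀ * κ⁻¹) = mk h := by
        rw [lift_conj C hκ hh₀, hh]
        rcases h2 with ⟨h2, h3⟩ | ⟨h2, h3⟩
        · rw [h2, h3]
        · rw [h2, h3, C.x_swap]
      constructor
      · intro e
        have := comm_lift e1.symm e2.symm e
        have h3 : κ * (g₀ * h₀) * κ⁻¹ = κ * (h₀ * g₀) * κ⁻¹ := by
          calc κ * (g₀ * h₀) * κ⁻¹ = κ * g₀ * κ⁻¹ * (κ * h₀ * κ⁻¹) := by group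
            _ = κ * h₀ * κ⁻¹ * (κ * g₀ * κ⁻¹) := this
            _ = κ * (h₀ * g₀) * κ⁻¹ := by group
        exact mul_left_cancel (mul_right_cancel h3)
      · intro e
        refine comm_lift e1 e2 ?_
        calc κ * g₀ * κ⁻¹ * (κ * h₀ * κ⁻¹) = κ * (g₀ * h₀) * κ⁻¹ := by group
          _ = κ * (h₀ * g₀) * κ⁻¹ := by rw [e]
          _ = κ * h₀ * κ⁻¹ * (κ * g₀ * κ⁻¹) := by group
    intro a' b' c' d' k1 k2 k3 k4 k5 k6 g' h' hg' hh' e
    obtain ⟨g₀, hg₀⟩ := exists_mk (C.x 0 1)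
    obtain ⟨h₀, hh₀⟩ := exists_mk (C.x 2 3)
    exact hcon ((key hab hac had hbc hbd hcd hg hh hg₀ hh₀).2 ((key k1 k2 k3 k4 k5 k6 hg' hh' hg₀ hh₀).1 e))
  -- the fifth point
  obtain ⟨e, he⟩ := fifth_point a b c d
  obtain ⟨s, hs⟩ := exists_mk (C.x a e)
  obtain ⟨t, ht⟩ := exists_mk (C.x e b)
  have h1 := all he.1.symm hac had he.2.2.1 he.2.2.2 hcd hs hh
  have h2 := all he.2.1 he.2.2.1 he.2.2.2 hbc hbd hcd ht hh
  have h1' : s * h = n1 * (h * s) := by
    rcases eq_or_of_mk (g := s * h) (h := h * s)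
      (by rw [mk_mul, mk_mul, hs, hh, x_comm_disj C hac had he.2.2.1 he.2.2.2]) with h3 | h3
    · exact absurd h3 h1
    · exact h3
  have h2' : t * h = n1 * (h * t) := by
    rcases eq_or_of_mk (g := t * h) (h := h * t)
      (by rw [mk_mul, mk_mul, ht, hh, x_comm_disj C he.2.2.1 he.2.2.2 hbc hbd]) with h3 | h3
    · exact absurd h3 h2
    · exact h3
  apply hcon
  refine comm_lift (g := s * t) (h := h) (g' := g) (h' := h) ?_ rfl ?_
  · rw [mk_mul, hs, ht, C.x_mul, hg]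
  · calc s * t * h = s * (t * h) := by group
      _ = s * (n1 * (h * t)) := by rw [h2']
      _ = (n1 * (s * h)) * t := by rw [← mul_assoc, ← n1_comm]; group
      _ = (n1 * (n1 * (h * s))) * t := by rw [h1']
      _ = (n1 * n1) * (h * (s * t)) := by group
      _ = h * (s * t) := by rw [n1_sq, one_mul]

/-- **E4.** -/
theorem case_neg (C : JC zz) (h2 : ∀ i, pi (C.cu i) ≠ 1) {g₀ : Co0} (hg₀ : mk g₀ = C.x 0 1) (hN : IsNeg g₀) :
    (∀ i j, i ≠ j → ∀ g : Co0, mk g = pi (C.ce i j) → IsNeg g) ∧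
      ∀ i, ∀ g : Co0, mk g = pi (C.cu i) → IsDod g := by
  have h1 : ∀ i j, i ≠ j → ∀ g : Co0, mk g = C.x i j → IsNeg g := by
    intro i j hij g hg
    show g * g = _
    rw [sq_const C hij (by decide : (0 : Fin 5) ≠ 1) hg hg₀]
    exact hN
  refine ⟨h1, ?_⟩
  intro i g hg
  rw [C.pi_cu] at hg
  obtain ⟨d01, d02, d03, d12, d13, d23, d0, d1, d2, d3⟩ := nx_facts i
  obtain ⟨s, hs⟩ := exists_mk (C.x (nx i 0) (nx i 1))
  obtain ⟨t, ht⟩ := exists_mk (C.x (nx i 2) (nx i 3))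
  have hgm : mk g = mk (s * t) := by rw [mk_mul, hs, ht, hg]
  have hst := comm_disj C d01 d02 d03 d12 d13 d23 hs ht
  have hss := h1 _ _ d01 s hs
  have htt := h1 _ _ d23 t ht
  have hgg : g * g = 1 := by
    rw [sq_lift hgm]
    calc s * t * (s * t) = s * (t * s) * t := by group
      _ = s * (s * t) * t := by rw [hst]
      _ = (s * s) * (t * t) := by group
      _ = n1 * n1 := by rw [hss, htt]
      _ = 1 := n1_sq
  -- `g` is conjugate to `-g`
  obtain ⟨r, hr⟩ := exists_mk (C.x (nx i 0) i)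
  have hrr := h1 _ _ d0 r hr
  have hrt := comm_disj C d0 d02 d03 d2.symm d3.symm d23 hr ht
  have hrs : r * s = n1 * (s * r) := by
    have e1 : C.x (nx i 0) i * C.x (nx i 0) (nx i 1) = C.x (nx i 1) i := by
      rw [← C.x_swap (nx i 0) i, C.x_mul, C.x_swap]
    have e2 : C.x (nx i 0) (nx i 1) * C.x (nx i 0) i = C.x (nx i 1) i := by
      rw [← C.x_swap (nx i 0) (nx i 1), C.x_mul]
    rcases eq_or_of_mk (g := r * s) (h := s * r) (by rw [mk_mul, mk_mul, hr, hs, e1, e2]) with h3 | h3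
    · exfalso
      have h4 : mk (s * r) = C.x (nx i 1) i := by
        rw [mk_mul, hs, hr, ← C.x_swap (nx i 0) (nx i 1), C.x_mul]
      have h5 := h1 _ _ d1 _ h4
      have h6 : s * r * (s * r) = 1 := by
        calc s * r * (s * r) = s * (r * s) * r := by group
          _ = s * (s * r) * r := by rw [h3]
          _ = (s * s) * (r * r) := by group
          _ = n1 * n1 := by rw [hss, hrr]
          _ = 1 := n1_sq
      rw [IsNeg, h6] at h5
      exact n1_ne h5.symm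
    · exact h3
  have hconj : r * (s * t) * r⁻¹ = n1 * (s * t) := by
    rw [mul_inv_eq_iff_eq_mul]
    calc r * (s * t) = (r * s) * t := by group
      _ = n1 * (s * r) * t := by rw [hrs]
      _ = n1 * s * (r * t) := by group
      _ = n1 * s * (t * r) := by rw [hrt]
      _ = n1 * (s * t) * r := by group
  have htr : tr8 (s * t) = 0 := by
    have h3 := tr8_conj r (s * t)
    rw [hconj, tr8_n1] at h3
    omega
  have htr' : tr8 g = 0 := by
    rcases eq_or_of_mk hgm with h3 | h3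
    · rw [h3, htr]
    · rw [h3, tr8_n1, htr, neg_zero]
  rcases cases_one hgg (by rw [hg, ← C.pi_cu]; exact h2 i) with h3 | h3 | h3
  · rw [h3.tr] at htr'; omega
  · have := h3.tr
    rw [tr8_n1, htr'] at this; omega
  · exact h3

end Cfsg.Agent.H820.Par
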